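import Mathlib
import Cfsg.Prelude.Def_Blocks
import Cfsg.Agent.Characters.Core
import Cfsg.Agent.Characters.Linear
import Cfsg.Agent.CharDeep.PowerDegrees
import Cfsg.Agent.CharactersDeep.Extraspecial
import Cfsg.Agent.Solvable.SchurZassenhausConj
import Cfsg.Agent.H621.RamTriple

/-!
# Groups of central type: from commutators to characters; solvable groups embed in central quotients
-/

set_option autoImplicit false

namespace Cfsg.Agent.H621

universe u

open Cfsg
open Cfsg.Agent.Characters.Core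
open scoped commutatorElement ComplexConjugate

/-- If every `x ∉ Z(H)` has `y` with `1 ≠ ⁅x, y⁆ ∈ Z(H)` and `Z(H)` embeds in `ℂˣ`, then `H` has
a faithful irreducible character of degree squared `|H : Z(H)|`. -/
theorem exists_irr_of_center {H : Type u} [Group H] [Finite H]
    (c : Subgroup.center H →* ℂˣ) (hc : Function.Injective c)
    (hram : ∀ x, x ∉ Subgroup.center H → ∃ y, ⁅x, y⁆ ∈ Subgroup.center H ∧ ⁅x, y⁆ ≠ 1) :
    ∃ χ : IrrCharacter H, (∀ h : H, (χ : H → ℂ) h = (χ : H → ℂ) 1 → h = 1) ∧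
      (charDegree (χ : H → ℂ)) ^ 2 = (Subgroup.center H).index := by
  classical
  have := Fintype.ofFinite H
  have := Fintype.ofFinite (Subgroup.center H)
  have hlam := Cfsg.Agent.Characters.Linear.isIrrCharacter_hom c
  obtain ⟨χ, hχ, hne⟩ := Cfsg.Agent.CharDeep.PowerDegrees.exists_irr_over (Subgroup.center H) hlam
  obtain ⟨c', hc', -⟩ := Cfsg.Agent.CharactersDeep.Extraspecial.exists_central_hom hχ
  have hlam' := Cfsg.Agent.Characters.Linear.isIrrCharacter_hom c'
  have hres : (fun n : Subgroup.center H => χ n) = (χ 1) • (fun z : Subgroup.center H => (c' z : ℂ)) := by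
    funext z
    have := hc' 1 z
    rw [one_mul] at this
    simpa using this
  have hcc : c' = c := by
    by_contra hcon
    apply hne
    rw [hres, classInner_smul_left, classInner_irr_ne hlam' hlam, mul_zero]
    intro h
    apply hcon
    ext z
    exact congrFun h z
  subst hcc
  have h0 : ∀ x, x ∉ Subgroup.center H → χ x = 0 := by
    intro x hx
    obtain ⟨y, hy1, hy2⟩ := hram x hx
    have h1 : y * x * y⁻¹ = x * (⁅x, y⁆)⁻¹ := by
      have hz := Subgroup.mem_center_iff.1 ((Subgroup.center H).inv_mem hy1) x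
      rw [hz, commutatorElement_def]
      group
    have h2 := hc' x ⟨(⁅x, y⁆)⁻¹, (Subgroup.center H).inv_mem hy1⟩
    have h3 := isIrr_isClassFunction hχ x y
    rw [h1] at h3
    rw [h3] at h2
    by_contra hne0
    have h4 : ((c' ⟨(⁅x, y⁆)⁻¹, (Subgroup.center H).inv_mem hy1⟩ : ℂˣ) : ℂ) = 1 := by
      have : χ x * 1 = χ x * ((c' ⟨(⁅x, y⁆)⁻¹, (Subgroup.center H).inv_mem hy1⟩ : ℂˣ) : ℂ) := by
        rw [mul_one]; exact h2
      exact (mul_left_cancel₀ hne0 this).symm
    have h5 : (⟨(⁅x, y⁆)⁻¹, (Subgroup.center H).inv_mem hy1⟩ : Subgroup.center H) = 1 := by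
      apply hc
      rw [map_one]
      exact Units.ext h4
    apply hy2
    have := congrArg Subtype.val h5
    exact inv_eq_one.1 this
  obtain ⟨n, hn, hn1⟩ := isIrr_apply_one hχ
  refine ⟨⟨χ, hχ⟩, fun h hh => ?_, ?_⟩
  · have hh' : χ h = χ 1 := hh
    have hmem : h ∈ Subgroup.center H := by
      by_contra hcon
      rw [h0 h hcon] at hh'
      exact isIrr_apply_one_ne_zero hχ hh'.symm
    have h1 := congrFun hres ⟨h, hmem⟩
    simp only [Pi.smul_apply, smul_eq_mul] at h1
    rw [hh'] at h1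
    have h2 : ((c' ⟨h, hmem⟩ : ℂˣ) : ℂ) = 1 := by
      have h3 : χ 1 * 1 = χ 1 * ((c' ⟨h, hmem⟩ : ℂˣ) : ℂ) := by rw [mul_one]; exact h1
      exact (mul_left_cancel₀ (isIrr_apply_one_ne_zero hχ) h3).symm
    have h5 : (⟨h, hmem⟩ : Subgroup.center H) = 1 := by
      apply hc
      rw [map_one]
      exact Units.ext h2
    exact congrArg Subtype.val h5
  · have hdeg : charDegree χ = n := by
      unfold charDegree
      rw [hn1]
      simp
    change (charDegree χ) ^ 2 = _
    rw [hdeg]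
    have h1 := classInner_irr_self hχ
    rw [classInner_def] at h1
    have h2 : ∑ g : H, χ g * conj (χ g) = (Nat.card (Subgroup.center H) : ℂ) * (n : ℂ) ^ 2 := by
      rw [← Finset.sum_filter_add_sum_filter_not Finset.univ (fun g => g ∈ Subgroup.center H)]
      have h3 : ∑ g ∈ Finset.univ.filter (fun g => g ∉ Subgroup.center H), χ g * conj (χ g) = 0 := by
        apply Finset.sum_eq_zero
        intro g hg
        rw [Finset.mem_filter] at hg
        rw [h0 g hg.2, zero_mul]
      rw [h3, add_zero]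
      have h4 : ∀ g ∈ Finset.univ.filter (fun g => g ∈ Subgroup.center H),
          χ g * conj (χ g) = (n : ℂ) ^ 2 := by
        intro g hg
        rw [Finset.mem_filter] at hg
        have h5 := congrFun hres ⟨g, hg.2⟩
        simp only [Pi.smul_apply, smul_eq_mul] at h5
        rw [h5, hn1, map_mul, Complex.conj_natCast]
        have h6 := Cfsg.Agent.Characters.Linear.norm_hom_apply c' ⟨g, hg.2⟩
        have h7 : ((c' ⟨g, hg.2⟩ : ℂˣ) : ℂ) * conj ((c' ⟨g, hg.2⟩ : ℂˣ) : ℂ) = 1 := by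
          rw [Complex.mul_conj, Complex.normSq_eq_norm_sq, h6]; simp
        linear_combination (n : ℂ) ^ 2 * h7
      rw [Finset.sum_congr rfl h4, Finset.sum_const, nsmul_eq_mul]
      congr 1
      rw [Nat.card_eq_fintype_card, Fintype.card_subtype]
    rw [h2] at h1
    have h3 := (Subgroup.center H).card_mul_index
    have h4 : (Nat.card H : ℂ) ≠ 0 := card_ne_zero_complex
    have h5 : (Nat.card (Subgroup.center H) : ℂ) * (n : ℂ) ^ 2 = Nat.card H := by
      field_simp at h1
      linear_combination h1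
    have h6 : Nat.card (Subgroup.center H) * n ^ 2 = Nat.card H := by exact_mod_cast h5
    rw [← h3] at h6
    exact Nat.eq_of_mul_eq_mul_left Nat.card_pos h6

/-- The kernel of `lam` on `Z`. -/
def Ram.ker {H : Type*} [Group H] {Z : Subgroup H} {lam : H → ℂˣ} (h : Ram Z lam) :
    Subgroup H where
  carrier := {z | z ∈ Z ∧ lam z = 1}
  mul_mem' := by
    rintro x y ⟨hx, hx'⟩ ⟨hy, hy'⟩
    exact ⟨Z.mul_mem hx hy, by rw [h.mul x hx y hy, hx', hy', one_mul]⟩
  one_mem' := ⟨Z.one_mem, h.one⟩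
  inv_mem' := by
    rintro x ⟨hx, hx'⟩
    exact ⟨Z.inv_mem hx, by rw [h.map_inv hx, hx', inv_one]⟩

theorem Ram.ker_normal {H : Type*} [Group H] {Z : Subgroup H} {lam : H → ℂˣ} (h : Ram Z lam) :
    h.ker.Normal := by
  refine ⟨fun z hz g => ?_⟩
  exact ⟨h.normal.conj_mem _ hz.1 _, by rw [h.inv z hz.1 g]; exact hz.2⟩

theorem Ram.mem_ker {H : Type*} [Group H] {Z : Subgroup H} {lam : H → ℂˣ} (h : Ram Z lam)
    {z : H} : z ∈ h.ker ↔ z ∈ Z ∧ lam z = 1 := Iff.rfl

/-- The quotient by the kernel: a group of central type. -/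
theorem Ram.quotient {H : Type u} [Group H] [Finite H] {Z : Subgroup H} {lam : H → ℂˣ}
    (h : Ram Z lam) :
    ∃ (X : Type u) (_ : Group X) (_ : Finite X) (f : H →* X) (c : Subgroup.center X →* ℂˣ),
      Function.Surjective f ∧ (∀ x, f x ∈ Subgroup.center X ↔ x ∈ Z) ∧
      (∀ z ∈ Z, ∀ hz : f z ∈ Subgroup.center X, c ⟨f z, hz⟩ = lam z) ∧
      Function.Injective c ∧
      (∀ x, x ∉ Subgroup.center X → ∃ y, ⁅x, y⁆ ∈ Subgroup.center X ∧ ⁅x, y⁆ ≠ 1) := by
  classical
  have hN := h.ker_normal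
  have hmk : ∀ x : H, (QuotientGroup.mk' h.ker x = 1 ↔ x ∈ Z ∧ lam x = 1) := by
    intro x
    rw [QuotientGroup.mk'_apply, QuotientGroup.eq_one_iff]
    exact h.mem_ker
  have hsurj : Function.Surjective (QuotientGroup.mk' h.ker) := QuotientGroup.mk'_surjective _
  have hcen : ∀ x, QuotientGroup.mk' h.ker x ∈ Subgroup.center (H ⧸ h.ker) ↔ x ∈ Z := by
    intro x
    constructor
    · intro hx
      by_contra hcon
      obtain ⟨y, hy1, hy2⟩ := h.ram x hcon
      rw [Subgroup.mem_center_iff] at hx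
      have h1 := hx (QuotientGroup.mk' h.ker y)
      have h2 : QuotientGroup.mk' h.ker ⁅x, y⁆ = 1 := by
        rw [map_commutatorElement, commutatorElement_eq_one_iff_mul_comm]
        exact h1.symm
      exact hy2 ((hmk _).1 h2).2
    · intro hx
      rw [Subgroup.mem_center_iff]
      intro g
      obtain ⟨g, rfl⟩ := hsurj g
      have h2 : QuotientGroup.mk' h.ker ⁅g, x⁆ = 1 := by
        rw [hmk]
        have h3 : ⁅g, x⁆ = (g * x * g⁻¹) * x⁻¹ := by rw [commutatorElement_def]
        have h4 : g * x * g⁻¹ ∈ Z := h.normal.conj_mem _ hx _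
        refine ⟨?_, ?_⟩
        · rw [h3]
          exact Z.mul_mem h4 (Z.inv_mem hx)
        · rw [h3, h.mul _ h4 _ (Z.inv_mem hx), h.inv x hx, h.map_inv hx, mul_inv_cancel]
      rw [map_commutatorElement, commutatorElement_eq_one_iff_mul_comm] at h2
      exact h2
  have hex : ∀ z : Subgroup.center (H ⧸ h.ker), ∃ x : H, x ∈ Z ∧ QuotientGroup.mk' h.ker x = z := by
    intro z
    obtain ⟨x, hx⟩ := hsurj z
    exact ⟨x, (hcen x).1 (hx ▸ z.2), hx⟩
  choose s hs1 hs2 using hex
  have hwell : ∀ x ∈ Z, ∀ y ∈ Z, QuotientGroup.mk' h.ker x = QuotientGroup.mk' h.ker y →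
      lam x = lam y := by
    intro x hx y hy hxy
    have h1 : QuotientGroup.mk' h.ker (x⁻¹ * y) = 1 := by
      rw [map_mul, _root_.map_inv, hxy, inv_mul_cancel]
    have h2 := ((hmk _).1 h1).2
    rw [h.mul _ (Z.inv_mem hx) _ hy, h.map_inv hx, inv_mul_eq_one] at h2
    exact h2
  let c : Subgroup.center (H ⧸ h.ker) →* ℂˣ := MonoidHom.mk' (fun z => lam (s z)) (by
    intro a b
    rw [← h.mul _ (hs1 a) _ (hs1 b)]
    apply hwell _ (hs1 _) _ (Z.mul_mem (hs1 a) (hs1 b))
    rw [map_mul, hs2, hs2, hs2]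
    rfl)
  refine ⟨H ⧸ h.ker, inferInstance, inferInstance, QuotientGroup.mk' h.ker, c, hsurj, hcen,
    ?_, ?_, ?_⟩
  · intro z hz hz'
    exact hwell _ (hs1 _) _ hz (hs2 _)
  · rw [injective_iff_map_eq_one]
    intro a ha
    have h1 : QuotientGroup.mk' h.ker (s a) = 1 := (hmk _).2 ⟨hs1 a, ha⟩
    rw [hs2] at h1
    exact Subtype.ext h1
  · intro x hx
    obtain ⟨x, rfl⟩ := hsurj x
    have hx' : x ∉ Z := fun hh => hx ((hcen x).2 hh)
    obtain ⟨y, hy1, hy2⟩ := h.ram x hx'
    refine ⟨QuotientGroup.mk' h.ker y, ?_, ?_⟩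
    · rw [← map_commutatorElement]
      exact (hcen _).2 hy1
    · rw [← map_commutatorElement]
      intro h3
      exact hy2 ((hmk _).1 h3).2

/-- A map `φ : G → H` inducing an injective homomorphism `G → H / Z`. -/
structure ProjEmb {G : Type*} [Group G] {H : Type*} [Group H] (Z : Subgroup H) (φ : G → H) :
    Prop where
  mul : ∀ g h, (φ (g * h))⁻¹ * (φ g * φ h) ∈ Z
  inj : ∀ g, φ g ∈ Z → g = 1

/-- The inductive statement. -/
def Good (G : Type u) [Group G] : Prop :=
  ∃ (H : Type u) (_ : Group H) (_ : Finite H) (Z : Subgroup H) (lam : H → ℂˣ) (φ : G → H),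
    Ram Z lam ∧ ProjEmb Z φ ∧ (∀ p : ℕ, p.Prime → p ∣ Nat.card H → p ∣ Nat.card G) ∧
    (∀ z ∈ Z, lam z ^ (∏ p ∈ (Nat.card G).primeFactors, p) = 1) ∧
    (∀ p : ℕ, p.Prime → p ∣ Nat.card G → ∃ z ∈ Z, lam z ≠ 1 ∧ lam z ^ p = 1)

theorem good_of_subsingleton (G : Type u) [Group G] [Subsingleton G] : Good G := by
  refine ⟨PUnit, inferInstance, inferInstance, ⊤, fun _ => 1, fun _ => 1, ⟨inferInstance, ?_, ?_,
    ?_⟩, ⟨?_, ?_⟩, ?_, ?_, ?_⟩
  · intros; simp
  · intros; simp
  · intro x hx; exact absurd (Subgroup.mem_top x) hx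
  · intros; simp
  · intro g _; exact Subsingleton.elim _ _
  · intro p hp h
    rw [Nat.card_unique] at h
    exact absurd (Nat.dvd_one.1 h) hp.one_lt.ne'
  · intros; simp
  · intro p hp h
    rw [Nat.card_unique] at h
    exact absurd (Nat.dvd_one.1 h) hp.one_lt.ne'

theorem mu_pow {p : ℕ} [NeZero p] (l : Heis p) : Heis.mu l ^ p = 1 := by
  unfold Heis.mu
  rw [← _root_.map_pow, ← AddChar.map_nsmul_eq_pow]
  simp

open scoped Classical in
theorem good_of_normal {G : Type u} [Group G] [Finite G] {p : ℕ} [hp : Fact p.Prime]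
    (N : Subgroup G) [N.Normal] (hN : N.index = p) (hgood : Good N) : Good G := by
  obtain ⟨K, _, _, Z, lam, φ, hR, hφ, hcard, hpow, hex⟩ := hgood
  have : NeZero p := ⟨hp.out.ne_zero⟩
  have hcQ : Nat.card (G ⧸ N) = Nat.card (Multiplicative (ZMod p)) := by
    rw [← Subgroup.index_eq_card, hN]; simp
  have hcG : Nat.card G = Nat.card N * p := by rw [← hN, Subgroup.card_mul_index]
  have e : (G ⧸ N) ≃* Multiplicative (ZMod p) := by
    have h1 : Nat.card (G ⧸ N) = p := by rw [hcQ]; simp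
    exact mulEquivOfPrimeCardEq (p := p) h1 (by simp)
  let π : G →* Multiplicative (ZMod p) := e.toMonoidHom.comp (QuotientGroup.mk' N)
  have hπ : Function.Surjective π := e.surjective.comp (QuotientGroup.mk'_surjective N)
  have hker : ∀ g, π g = 1 ↔ g ∈ N := by
    intro g
    change e (QuotientGroup.mk' N g) = 1 ↔ _
    rw [EmbeddingLike.map_eq_one_iff, QuotientGroup.mk'_apply, QuotientGroup.eq_one_iff]
  choose s hs using hπ
  have hmem : ∀ (g : G) (i : Multiplicative (ZMod p)), (s i)⁻¹ * g * s ((π g)⁻¹ * i) ∈ N := by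
    intro g i
    rw [← hker, map_mul, map_mul, _root_.map_inv, hs, hs]
    rw [mul_comm i⁻¹ (π g), mul_assoc, mul_comm (π g)⁻¹ i, inv_mul_cancel_left, mul_inv_cancel]
  have hfin : Finite (Wr K (Heis.pr (p := p))) := by
    have := Heis.finite_heis (p := p)
    exact Wr.finite_wr
  have hRW := Wr.ram_wr (π := Heis.pr (p := p)) hR (Heis.ram_heis (p := p)) Heis.cen_le
    (Heis.ram_ker (p := p))
  have hH3 := Heis.card_heis (p := p)
  refine ⟨Wr K (Heis.pr (p := p)), inferInstance, hfin, _, _,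
    fun g => ⟨fun i => φ ⟨_, hmem g i⟩, Heis.sec (π g)⟩, hRW, ⟨?_, ?_⟩, ?_, ?_, ?_⟩
  · intro g h
    refine ⟨fun i => ?_, ?_⟩
    · simp only [Wr.mul_f, Wr.inv_f, Heis.pr_sec, inv_inv, Wr.inv_l, _root_.map_inv]
      have h1 := hφ.mul ⟨_, hmem g (π (g * h) * i)⟩ ⟨_, hmem h ((π g)⁻¹ * (π (g * h) * i))⟩
      have h2 : (⟨_, hmem g (π (g * h) * i)⟩ * ⟨_, hmem h ((π g)⁻¹ * (π (g * h) * i))⟩ : N) =
          ⟨_, hmem (g * h) (π (g * h) * i)⟩ := by
        apply Subtype.ext
        simp only [Subgroup.coe_mul]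
        have h3 : (π h)⁻¹ * ((π g)⁻¹ * (π (g * h) * i)) = (π (g * h))⁻¹ * (π (g * h) * i) := by
          rw [map_mul]; group
        rw [h3]
        group
      rw [h2] at h1
      exact h1
    · simp only [Wr.mul_l, Wr.inv_l, map_mul, inv_mul_cancel]
      exact (Heis.cen p).one_mem
  · rintro g ⟨h1, h2⟩
    have h3 : π g = 1 := Heis.cen_le h2
    have h4 := hφ.inj _ (h1 1)
    have h5 := congrArg Subtype.val h4
    simp only [h3, inv_one, mul_one, Subgroup.coe_one] at h5
    have h6 : (s 1)⁻¹ * g * s 1 = 1 := h5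
    have h7 : g = s 1 * ((s 1)⁻¹ * g * s 1) * (s 1)⁻¹ := by group
    rw [h7, h6]; group
  · intro q hq hd
    rw [Wr.card_wr, hq.dvd_mul] at hd
    rw [hcG, hq.dvd_mul]
    rcases hd with hd | hd
    · rw [Nat.card_fun] at hd
      exact Or.inl (hcard q hq (hq.dvd_of_dvd_pow hd))
    · rw [hH3] at hd
      exact Or.inr (hq.dvd_of_dvd_pow hd)
  · rintro z ⟨hz1, hz2⟩
    have hn1 : (∏ p ∈ (Nat.card N).primeFactors, p) ∣ ∏ p ∈ (Nat.card G).primeFactors, p := by
      apply Finset.prod_dvd_prod_of_subset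
      exact Nat.primeFactors_mono (by rw [hcG]; exact Nat.dvd_mul_right _ _) Nat.card_pos.ne'
    have hn2 : p ∣ ∏ p ∈ (Nat.card G).primeFactors, p := by
      apply Finset.dvd_prod_of_mem (fun p => p)
      rw [Nat.mem_primeFactors]
      exact ⟨hp.out, by rw [hcG]; exact Nat.dvd_mul_left _ _, Nat.card_pos.ne'⟩
    obtain ⟨a, ha⟩ := hn1
    obtain ⟨b, hb⟩ := hn2
    unfold Wr.lamW
    rw [mul_pow]
    have h1 : (∏ i, lam (z.f i)) ^ (∏ p ∈ (Nat.card G).primeFactors, p) = 1 := by
      rw [ha, pow_mul, ← Finset.prod_pow]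
      rw [Finset.prod_congr rfl (fun i _ => hpow _ (hz1 i))]
      simp
    have h2 : Heis.mu z.l ^ (∏ p ∈ (Nat.card G).primeFactors, p) = 1 := by
      rw [hb, pow_mul, mu_pow, one_pow]
    rw [h1, h2, one_mul]
  · intro q hq hd
    rw [hcG, hq.dvd_mul] at hd
    rcases hd with hd | hd
    · obtain ⟨z, hz, hz1, hz2⟩ := hex q hq hd
      refine ⟨⟨Pi.mulSingle 1 z, 1⟩, ⟨fun i => ?_, (Heis.cen p).one_mem⟩, ?_⟩
      · by_cases hi : i = 1
        · subst hi; simpa using hz
        · have h1 : (Pi.mulSingle 1 z : Multiplicative (ZMod p) → K) i = 1 :=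
            Pi.mulSingle_eq_of_ne hi _
          change (Pi.mulSingle 1 z : Multiplicative (ZMod p) → K) i ∈ Z
          rw [h1]; exact Z.one_mem
      · have : Wr.lamW lam Heis.mu (⟨Pi.mulSingle 1 z, 1⟩ : Wr K (Heis.pr (p := p))) = lam z := by
          unfold Wr.lamW
          rw [(Heis.ram_heis (p := p)).one, mul_one, Finset.prod_eq_single 1]
          · simp
          · intro j _ hj
            simp only
            rw [Pi.mulSingle_eq_of_ne hj, hR.one]
          · simp
        rw [this]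
        exact ⟨hz1, hz2⟩
    · have hqp : q = p := (Nat.prime_dvd_prime_iff_eq hq hp.out).1 hd
      subst hqp
      refine ⟨⟨fun _ => 1, ⟨0, 0, 1⟩⟩, ⟨fun i => Z.one_mem, ⟨rfl, rfl⟩⟩, ?_⟩
      have : Wr.lamW lam Heis.mu (⟨fun _ => 1, ⟨0, 0, 1⟩⟩ : Wr K (Heis.pr (p := q))) =
          Heis.mu (⟨0, 0, 1⟩ : Heis q) := by
        unfold Wr.lamW
        simp [hR.one]
      rw [this]
      refine ⟨?_, mu_pow _⟩
      rw [Ne, Heis.mu_eq_one]
      have : Fact (1 < q) := ⟨hp.out.one_lt⟩
      exact one_ne_zero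

theorem good_of_solvable (n : ℕ) : ∀ (G : Type u) [Group G] [Finite G], Nat.card G = n →
    Group.IsSolvable G → Good G := by
  induction n using Nat.strong_induction_on with
  | _ n ih =>
    intro G _ _ hn hG
    rcases subsingleton_or_nontrivial G with h | h
    · exact good_of_subsingleton G
    · obtain ⟨M, hM, -, hp⟩ := Cfsg.Agent.Solvable.SchurZassenhausConj.exists_normal_prime_index
        (⊥ : Subgroup G) bot_ne_top inferInstance
      have : Fact M.index.Prime := ⟨hp⟩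
      refine good_of_normal M rfl (ih (Nat.card M) ?_ M rfl inferInstance)
      rw [← hn, ← M.card_mul_index]
      exact lt_mul_of_one_lt_right Nat.card_pos hp.one_lt

theorem main {G : Type u} [Group G] [Finite G] (hsolv : Group.IsSolvable G) :
    ∃ (H : Type u) (_ : Group H) (_ : Finite H) (χ : Cfsg.IrrCharacter H),
      (∀ h : H, (χ : H → ℂ) h = (χ : H → ℂ) 1 → h = 1) ∧
      (Cfsg.charDegree (χ : H → ℂ)) ^ 2 = (Subgroup.center H).index ∧
      (∃ f : G →* H ⧸ Subgroup.center H, Function.Injective f) ∧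
      (∀ p : ℕ, p.Prime → ((p ∣ Nat.card H ↔ p ∣ Nat.card G) ∧
        (p ∣ Nat.card (Subgroup.center H) ↔ p ∣ Nat.card G))) ∧
      Squarefree (Nat.card (Subgroup.center H)) := by
  classical
  obtain ⟨H, _, _, Z, lam, φ, hR, hφ, hcard, hpow, hex⟩ := good_of_solvable _ G rfl hsolv
  obtain ⟨X, _, _, f, c, hf, hcen, hc, hcinj, hram⟩ := hR.quotient
  obtain ⟨χ, h1, h2⟩ := exists_irr_of_center c hcinj hram
  have hXH : Nat.card X ∣ Nat.card H := Subgroup.card_dvd_of_surjective f hf
  have hcp : ∀ x : Subgroup.center X, x ^ (∏ p ∈ (Nat.card G).primeFactors, p) = 1 := by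
    rintro ⟨x, hx⟩
    obtain ⟨z, rfl⟩ := hf x
    apply hcinj
    rw [_root_.map_pow, map_one, hc z ((hcen z).1 hx) hx]
    exact hpow z ((hcen z).1 hx)
  have hcyc : IsCyclic (Subgroup.center X) :=
    isCyclic_of_injective_ringHom ((Units.coeHom ℂ).comp c)
      ((Units.val_injective).comp hcinj)
  obtain ⟨g, hg⟩ := hcyc.exists_ofOrder_eq_natCard
  have hdvd : Nat.card (Subgroup.center X) ∣ ∏ p ∈ (Nat.card G).primeFactors, p := by
    rw [← hg]
    exact orderOf_dvd_of_pow_eq_one (hcp g)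
  have hsq : Squarefree (∏ p ∈ (Nat.card G).primeFactors, p) := by
    apply Finset.squarefree_prod_of_pairwise_isCoprime
    · intro a ha b hb hab
      change IsRelPrime a b
      rw [← Nat.coprime_iff_isRelPrime]
      exact (Nat.coprime_primes (Nat.prime_of_mem_primeFactors ha)
        (Nat.prime_of_mem_primeFactors hb)).2 hab
    · intro a ha
      exact (Nat.prime_of_mem_primeFactors ha).prime.squarefree
  have hXG : ∀ p : ℕ, p.Prime → p ∣ Nat.card X → p ∣ Nat.card G :=
    fun p hp h => hcard p hp (h.trans hXH)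
  have hGZ : ∀ p : ℕ, p.Prime → p ∣ Nat.card G → p ∣ Nat.card (Subgroup.center X) := by
    intro p hp hd
    obtain ⟨z, hz, hz1, hz2⟩ := hex p hp hd
    have hz' : f z ∈ Subgroup.center X := (hcen z).2 hz
    have h3 : orderOf (⟨f z, hz'⟩ : Subgroup.center X) = p := by
      have : Fact p.Prime := ⟨hp⟩
      apply orderOf_eq_prime
      · apply hcinj
        rw [_root_.map_pow, map_one, hc z hz hz', hz2]
      · intro h4
        apply hz1
        rw [← hc z hz hz', h4, map_one]
    rw [← h3]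
    exact orderOf_dvd_natCard _
  have hZX : Nat.card (Subgroup.center X) ∣ Nat.card X := Subgroup.card_subgroup_dvd_card _
  refine ⟨X, inferInstance, inferInstance, χ, h1, h2, ?_, ?_, hsq.squarefree_of_dvd hdvd⟩
  · let F : G →* X ⧸ Subgroup.center X := MonoidHom.mk' (fun g => QuotientGroup.mk' _ (f (φ g))) (by
      intro a b
      rw [← map_mul, ← map_mul, QuotientGroup.mk'_apply, QuotientGroup.mk'_apply,
        QuotientGroup.eq, ← _root_.map_inv, ← map_mul]
      exact (hcen _).2 (hφ.mul a b))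
    refine ⟨F, ?_⟩
    rw [injective_iff_map_eq_one]
    intro a ha
    apply hφ.inj
    rw [← hcen]
    exact (QuotientGroup.eq_one_iff _).1 ha
  · intro p hp
    exact ⟨⟨hXG p hp, fun h => (hGZ p hp h).trans hZX⟩,
      ⟨fun h => hXG p hp (h.trans hZX), hGZ p hp⟩⟩

end Cfsg.Agent.H621
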